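import Mathlib

/-!
# Adjoining a root of a uniformizer
-/

set_option autoImplicit false
set_option linter.style.haveILetI false
universe u

open Polynomial IsLocalRing

namespace Groth.Agent.RamExtLib

variable {R : Type u} [CommRing R] [IsDomain R] [IsDiscreteValuationRing R] {π : R} (hπ : Irreducible π) {N : ℕ} (hN : 0 < N)

include hπ hN in
theorem prime_X_pow_sub_C : Prime (X ^ N - C π : R[X]) := by
  have hprim : (X ^ N - C π : R[X]).IsPrimitive := (monic_X_pow_sub_C π hN.ne').isPrimitive
  have hmax : maximalIdeal R = Ideal.span {π} := hπ.maximalIdeal_eq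
  have hdeg : (X ^ N - C π : R[X]).natDegree = N := natDegree_X_pow_sub_C
  have hE : (X ^ N - C π : R[X]).IsEisensteinAt (maximalIdeal R) := by
    refine ⟨?_, ?_, ?_⟩
    · rw [(monic_X_pow_sub_C π hN.ne').leadingCoeff]
      exact (maximalIdeal R).ne_top_iff_one.1 (maximalIdeal.isMaximal R).ne_top
    · intro n hn
      rw [hdeg] at hn
      rw [coeff_sub, coeff_X_pow, if_neg hn.ne, zero_sub, neg_mem_iff, coeff_C]
      split_ifs
      · exact (mem_maximalIdeal _).2 hπ.not_isUnit
      · exact zero_mem _
    · rw [coeff_sub, coeff_X_pow, if_neg hN.ne, zero_sub, neg_mem_iff, coeff_C_zero, hmax, Ideal.span_singleton_pow,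
        Ideal.mem_span_singleton]
      rintro ⟨c, hc⟩
      refine hπ.not_isUnit (IsUnit.of_mul_eq_one c ?_)
      have : π * (π * c) = π * 1 := by rw [mul_one, ← mul_assoc, ← sq]; exact hc.symm
      exact mul_left_cancel₀ hπ.ne_zero this
  exact (hE.irreducible (maximalIdeal.isMaximal R).isPrime hprim (by rw [hdeg]; exact hN)).prime

include hπ hN in
/-- A totally ramified extension containing an `N`-th root of the uniformizer. -/
theorem exists_root (K : Type u) [Field K] [Algebra R K] [IsFractionRing R K] :
    ∃ (R' : Type u) (_ : CommRing R') (_ : IsDomain R') (_ : IsDiscreteValuationRing R')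
      (K' : Type u) (_ : Field K') (_ : Algebra R' K') (_ : IsFractionRing R' K')
      (_ : Algebra R R') (_ : Algebra K K') (_ : Algebra R K')
      (_ : IsScalarTower R R' K') (_ : IsScalarTower R K K')
      (_ : Module.Finite K K') (_ : IsLocalHom (algebraMap R R')) (T : R'),
      Irreducible T ∧ T ^ N = algebraMap R R' π := by
  let f : R[X] := X ^ N - C π
  have hmonic : f.Monic := monic_X_pow_sub_C π hN.ne'
  let S := AdjoinRoot f
  haveI : IsDomain S := AdjoinRoot.isDomain_of_prime (prime_X_pow_sub_C hπ hN)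
  haveI : Module.Finite R S := hmonic.finite_adjoinRoot
  have hinj : Function.Injective (algebraMap R S) := by
    refine AdjoinRoot.of.injective_of_degree_ne_zero ?_
    rw [degree_X_pow_sub_C hN]
    exact_mod_cast hN.ne'
  haveI : FaithfulSMul R S := (faithfulSMul_iff_algebraMap_injective R S).2 hinj
  haveI : IsNoetherianRing S := isNoetherian_of_tower R inferInstance
  set T : S := AdjoinRoot.root f with hT
  have hTN : T ^ N = algebraMap R S π := by
    have := AdjoinRoot.eval₂_root f
    rwa [eval₂_sub, eval₂_X_pow, eval₂_C, sub_eq_zero] at this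
  have hmax : maximalIdeal R = Ideal.span {π} := hπ.maximalIdeal_eq
  -- the residue ring
  let χ : S →ₐ[R] ResidueField R := AdjoinRoot.liftAlgHom f (Algebra.ofId R _) 0 (by
    rw [eval₂_sub, eval₂_X_pow, eval₂_C, zero_pow hN.ne', zero_sub, neg_eq_zero]
    exact (residue_eq_zero_iff π).2 ((mem_maximalIdeal _).2 hπ.not_isUnit))
  have hrep : ∀ s : S, ∃ a : R, s - algebraMap R S a ∈ Ideal.span {T} := fun s => by
    induction s using AdjoinRoot.induction_on with
    | ih p =>
      refine ⟨p.coeff 0, ?_⟩
      rw [Ideal.mem_span_singleton, AdjoinRoot.algebraMap_eq, ← AdjoinRoot.mk_C, ← map_sub, hT, ← AdjoinRoot.mk_X]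
      exact map_dvd _ (X_dvd_iff.2 (by simp))
  have hker : RingHom.ker χ = Ideal.span {T} := by
    have hT0 : χ T = 0 := AdjoinRoot.liftAlgHom_root _ _ _ _
    refine le_antisymm (fun s hs => ?_) (Ideal.span_le.2 (Set.singleton_subset_iff.2 hT0))
    obtain ⟨a, ha⟩ := hrep s
    have hTmem : Ideal.span {T} ≤ RingHom.ker χ := Ideal.span_le.2 (Set.singleton_subset_iff.2 hT0)
    have h1 : χ (algebraMap R S a) = 0 := by
      have := hTmem ha
      rw [RingHom.mem_ker, map_sub, show χ s = 0 from hs, zero_sub, neg_eq_zero] at this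
      exact this
    rw [AlgHom.commutes] at h1
    have h2 : algebraMap R S a ∈ Ideal.span {T} := by
      have h3 : a ∈ Ideal.span {π} := hmax ▸ (residue_eq_zero_iff a).1 h1
      obtain ⟨c, rfl⟩ := Ideal.mem_span_singleton'.1 h3
      rw [map_mul, ← hTN, Ideal.mem_span_singleton]
      exact dvd_mul_of_dvd_right (dvd_pow_self T hN.ne') _
    simpa using add_mem ha h2
  have hsurj : Function.Surjective χ := fun z => by
    obtain ⟨a, rfl⟩ := residue_surjective z
    exact ⟨algebraMap R S a, χ.commutes a⟩
  haveI hM : (Ideal.span {T}).IsMaximal := hker ▸ RingHom.ker_isMaximal_of_surjective _ hsurj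
  have huniq : ∀ P : Ideal S, P.IsMaximal → P = Ideal.span {T} := fun P hP => by
    haveI := hP
    have h1 : P.comap (algebraMap R S) = maximalIdeal R :=
      IsLocalRing.eq_maximalIdeal (Ideal.isMaximal_comap_of_isIntegral_of_isMaximal P)
    refine (hM.eq_of_le hP.ne_top (Ideal.span_le.2 (Set.singleton_subset_iff.2 (hP.isPrime.mem_of_pow_mem N ?_)))).symm
    rw [hTN]
    exact h1.ge ((mem_maximalIdeal _).2 hπ.not_isUnit)
  haveI : IsLocalRing S := IsLocalRing.of_unique_max_ideal ⟨_, hM, huniq⟩
  have hmS : maximalIdeal S = Ideal.span {T} := huniq _ inferInstance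
  have hT0 : T ≠ 0 := fun h => by
    rw [h, zero_pow hN.ne'] at hTN
    exact hπ.ne_zero (hinj (hTN.symm.trans (map_zero _).symm))
  have hfield : ¬ IsField S := fun h => by
    rw [IsLocalRing.isField_iff_maximalIdeal_eq, hmS, Ideal.span_singleton_eq_bot] at h
    exact hT0 h
  haveI : IsDiscreteValuationRing S :=
    ((IsDiscreteValuationRing.TFAE S hfield).out 0 4).2 (by rw [hmS]; exact ⟨T, rfl⟩)
  let K' := FractionRing S
  letI : Algebra K K' := (IsFractionRing.lift (g := algebraMap R K')
    (by rw [IsScalarTower.algebraMap_eq R S K']; exact (IsFractionRing.injective S K').comp hinj)).toAlgebra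
  haveI : IsScalarTower R K K' := IsScalarTower.of_algebraMap_eq fun r => (IsFractionRing.lift_algebraMap _ r).symm
  haveI : Module.Finite K K' := by
    have hb := Algebra.IsAlgebraic.isBaseChange_of_isFractionRing R S K K'
    exact Module.Finite.equiv hb.equiv
  haveI : IsLocalHom (algebraMap R S) := ⟨fun a ha => by
    by_contra h
    have h3 : a ∈ Ideal.span {π} := hmax ▸ (mem_maximalIdeal _).2 h
    obtain ⟨c, rfl⟩ := Ideal.mem_span_singleton'.1 h3
    rw [map_mul, ← hTN] at ha
    exact ((mem_maximalIdeal _).1 (hmS ▸ Ideal.mem_span_singleton_self T : T ∈ maximalIdeal S))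
      (isUnit_pow_iff hN.ne' |>.1 (isUnit_of_mul_isUnit_right ha))⟩
  refine ⟨S, inferInstance, inferInstance, inferInstance, K', inferInstance, inferInstance, inferInstance,
    inferInstance, inferInstance, inferInstance, inferInstance, inferInstance, inferInstance, inferInstance, T, ?_, hTN⟩
  exact (IsDiscreteValuationRing.irreducible_iff_uniformizer T).2 hmS

end Groth.Agent.RamExtLib
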